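import Mathlib
import Cfsg.Agent.Lib.Helper8.TW.Defs
import Cfsg.Agent.Lib.Helper25.SpTDefs
import Cfsg.Agent.Lib.Helper23.TWUQDefs

/-!
# S5668 (C7 symplectic: `Sp_k wr S_t` maximal in `Sp_{k^t}(q)`, `q` odd, `t` odd; owner helper5) — THE SYMPLECTIC LAYER

Model: `V = F^(Fin t → Fin k)` (`Helper8.TW.Idx t k`), `k` even; on `A = F^k` the standard symplectic form
`sf x y = xᵀ J y` of helper25 (`Helper25.SpT.sf`, Gram matrix `Jm k`, hyperbolic pairs `(2a, 2a+1)`, functional `sfv y = J y`,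
`sfv y ⬝ᵥ a = sf a y`); on `V` the TENSOR POWER form `sfT` with Gram matrix `JT t k a b = ∏ i, Jm k (a i) (b i)`:
`sfT (pt v) (pt w) = ∏ j, sf (v j) (w j)`; it is `(-1)^t`-symmetric (alternating for odd `t`, symmetric for even `t`).
Everything form-free is helper8's `Helper8.TW` (S5641): `Idx pt slice fib Wf Cf rootN slot slotGL ext extGL RD Gstd SLV img conjG mv`.

Symplectic vocabulary (this file):
* `RS r` the ADMISSIBLE root data: `r.η = sfv r.y` (EVERY `y ≠ 0` is admissible); `srd` builds one; the root groups are the FULL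
  `F`-root groups `RD.grp` of helper8 (`r.elt c`, all `c : F`);
* `GSV` (isometries of `sfT`), `DSV` (similitudes), `HS = Gstd ⊓ GSV`; `GSA`, `DSA` on `A`; `perpT`, `perpA`, `TIT`;
* `NSS X = Helper23.TWUQ.NSp (fun _ => True) X`, `FCS X = Helper23.TWUQ.FCp RS Set.univ X`;
* `nilS J y` (`∏_{j∈J} slot j (y_j y_j†)` by entries, `y† = sfv y`), `XTS X J`; `MainTS t k F`.
See `notes/S5668_plan.md`.
-/

set_option autoImplicit false
set_option linter.unusedSectionVars false
set_option linter.unusedVariables false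

namespace Cfsg.Agent.Lib.Helper5.TWS
open Matrix Cfsg.Geo Cfsg.Agent.Lib.Helper18.AschA89 Cfsg.Agent.Lib.Helper8.TW
open Cfsg.Agent.Lib.Helper25.SpT (sf Jm sfv)

variable {F : Type*} [Field F] {t k : ℕ}

/-! ### the tensor power form -/

/-- the Gram matrix of the tensor power form: `JT a b = ∏ i, Jm k (a i) (b i)` -/
def JT (t k : ℕ) (F : Type*) [Field F] : Matrix (Idx t k) (Idx t k) F := fun a b => ∏ i, (Jm k : Matrix (Fin k) (Fin k) F) (a i) (b i)

/-- the tensor power form on `V = F^(Idx t k)`: `sfT u v = uᵀ JT v` -/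
def sfT (u v : Idx t k → F) : F := u ⬝ᵥ (JT t k F *ᵥ v)

lemma JT_apply (a b : Idx t k) : JT t k F a b = ∏ i, (Jm k : Matrix (Fin k) (Fin k) F) (a i) (b i) := rfl

lemma sfT_eq_sum (u v : Idx t k → F) : sfT u v = ∑ a, ∑ b, u a * JT t k F a b * v b := by
  simp only [sfT, dotProduct, Matrix.mulVec, Finset.mul_sum, mul_assoc]

lemma sfT_add_left (u u' v : Idx t k → F) : sfT (u + u') v = sfT u v + sfT u' v := by
  simp only [sfT, add_dotProduct]

lemma sfT_add_right (u v v' : Idx t k → F) : sfT u (v + v') = sfT u v + sfT u v' := by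
  simp only [sfT, Matrix.mulVec_add, dotProduct_add]

lemma sfT_smul_left (c : F) (u v : Idx t k → F) : sfT (c • u) v = c * sfT u v := by
  simp only [sfT, smul_dotProduct, smul_eq_mul]

lemma sfT_smul_right (c : F) (u v : Idx t k → F) : sfT u (c • v) = c * sfT u v := by
  simp only [sfT, Matrix.mulVec_smul, dotProduct_smul, smul_eq_mul]

@[simp] lemma sfT_zero_left (v : Idx t k → F) : sfT (0 : Idx t k → F) v = 0 := by
  simp [sfT]

@[simp] lemma sfT_zero_right (u : Idx t k → F) : sfT u (0 : Idx t k → F) = 0 := by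
  simp [sfT]

lemma sfT_neg_left (u v : Idx t k → F) : sfT (-u) v = - sfT u v := by
  simp only [sfT, neg_dotProduct]

lemma sfT_neg_right (u v : Idx t k → F) : sfT u (-v) = - sfT u v := by
  simp only [sfT, Matrix.mulVec_neg, dotProduct_neg]

lemma sfT_sub_left (u u' v : Idx t k → F) : sfT (u - u') v = sfT u v - sfT u' v := by
  simp only [sfT, sub_dotProduct]

lemma sfT_sub_right (u v v' : Idx t k → F) : sfT u (v - v') = sfT u v - sfT u v' := by
  simp only [sfT, Matrix.mulVec_sub, dotProduct_sub]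

/-! ### orthogonal complements -/

/-- orthogonal complement in `V` for `sfT` (`sfT` is `(-1)^t`-symmetric, so left = right) -/
def perpT (W : Submodule F (Idx t k → F)) : Submodule F (Idx t k → F) where
  carrier := {v | ∀ w ∈ W, sfT v w = 0}
  add_mem' := by
    intro a b ha hb w hw
    rw [sfT_add_left, ha w hw, hb w hw, add_zero]
  zero_mem' := by
    intro w _
    exact sfT_zero_left w
  smul_mem' := by
    intro c a ha w hw
    rw [sfT_smul_left, ha w hw, mul_zero]

lemma mem_perpT {W : Submodule F (Idx t k → F)} {v : Idx t k → F} :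
    v ∈ perpT W ↔ ∀ w ∈ W, sfT v w = 0 := Iff.rfl

/-- orthogonal complement in `A = F^k` for `sf` -/
def perpA (S : Submodule F (Fin k → F)) : Submodule F (Fin k → F) where
  carrier := {a | ∀ s ∈ S, sf a s = 0}
  add_mem' := by
    intro a b ha hb w hw
    rw [Cfsg.Agent.Lib.Helper25.SpT.sf_add_left, ha w hw, hb w hw, add_zero]
  zero_mem' := by
    intro w _
    exact Cfsg.Agent.Lib.Helper25.SpT.sf_zero_left w
  smul_mem' := by
    intro c a ha w hw
    rw [Cfsg.Agent.Lib.Helper25.SpT.sf_smul_left, ha w hw, mul_zero]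

lemma mem_perpA {S : Submodule F (Fin k → F)} {a : Fin k → F} :
    a ∈ perpA S ↔ ∀ s ∈ S, sf a s = 0 := Iff.rfl

/-- totally isotropic for `sfT` -/
def TIT (W : Submodule F (Idx t k → F)) : Prop := ∀ v ∈ W, ∀ w ∈ W, sfT v w = 0

/-! ### admissible root data -/

/-- the ADMISSIBLE root data of the symplectic case: `r.η = sf · r.y` (as a vector, `sfv r.y = J r.y`) -/
def RS (r : RD t k F) : Prop := r.η = sfv r.y

lemma sfv_ne_zero (hk : Even k) {y : Fin k → F} (hy : y ≠ 0) : sfv y ≠ 0 := by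
  intro h
  obtain ⟨x, hx⟩ := Cfsg.Agent.Lib.Helper25.SpT.exists_sf_ne_zero hk hy
  apply hx
  rw [Cfsg.Agent.Lib.Helper25.SpT.sf_skew, ← Cfsg.Agent.Lib.Helper25.SpT.sfv_dot, h, zero_dotProduct, neg_zero]

/-- the admissible root datum of `y ≠ 0` at position `i` -/
def srd (hk : Even k) (i : Fin t) (y : Fin k → F) (hy0 : y ≠ 0) : RD t k F :=
  ⟨i, y, sfv y, hy0, sfv_ne_zero hk hy0, by
    rw [Cfsg.Agent.Lib.Helper25.SpT.sfv_dot]; exact Cfsg.Agent.Lib.Helper25.SpT.sf_self y⟩

lemma srd_RS (hk : Even k) (i : Fin t) (y : Fin k → F) (hy0 : y ≠ 0) : RS (srd hk i y hy0) := rfl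

@[simp] lemma srd_i (hk : Even k) (i : Fin t) (y : Fin k → F) (hy0 : y ≠ 0) : (srd hk i y hy0).i = i := rfl

@[simp] lemma srd_y (hk : Even k) (i : Fin t) (y : Fin k → F) (hy0 : y ≠ 0) : (srd hk i y hy0).y = y := rfl

@[simp] lemma srd_η (hk : Even k) (i : Fin t) (y : Fin k → F) (hy0 : y ≠ 0) : (srd hk i y hy0).η = sfv y := rfl

/-! ### the groups -/

/-- the isometry group of `sfT` on the model `V = F^(Idx t k)` (`Sp(V)` for odd `t`, `O(V)` for even `t`) -/
def GSV (t k : ℕ) (F : Type*) [Field F] : Subgroup (GL (Idx t k) F) :=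
  Cfsg.preserving (Units.coeHom (Matrix (Idx t k) (Idx t k) F)) (sfT : (Idx t k → F) → (Idx t k → F) → F)

/-- the similitudes of `sfT` on the model -/
def DSV (t k : ℕ) (F : Type*) [Field F] : Subgroup (GL (Idx t k) F) :=
  Cfsg.Geo.similarityGroup (sfT : (Idx t k → F) → (Idx t k → F) → F)

/-- `H = G ∩ GSV` -/
def HS (t k : ℕ) (F : Type*) [Field F] : Subgroup (GL (Idx t k) F) := Gstd t k F ⊓ GSV t k F

lemma mem_GSV {g : GL (Idx t k) F} :
    g ∈ GSV t k F ↔ ∀ u v, sfT (mv g u) (mv g v) = sfT u v := Iff.rfl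

lemma mem_DSV {g : GL (Idx t k) F} :
    g ∈ DSV t k F ↔ ∃ c : Fˣ, ∀ u v, sfT (mv g u) (mv g v) = (c : F) * sfT u v := Iff.rfl

lemma GSV_le_DSV : GSV t k F ≤ DSV t k F := by
  intro g hg
  exact ⟨1, fun u v => by rw [Units.val_one, one_mul]; exact hg u v⟩

/-- the isometry group of `sf` on `A = F^k`, its similitudes -/
def GSA (k : ℕ) (F : Type*) [Field F] : Subgroup (GL (Fin k) F) :=
  Cfsg.preserving (Units.coeHom (Matrix (Fin k) (Fin k) F)) (sf : (Fin k → F) → (Fin k → F) → F)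

def DSA (k : ℕ) (F : Type*) [Field F] : Subgroup (GL (Fin k) F) :=
  Cfsg.Geo.similarityGroup (sf : (Fin k → F) → (Fin k → F) → F)

lemma mem_GSA {α : GL (Fin k) F} :
    α ∈ GSA k F ↔ ∀ a b : Fin k → F, sf ((α : Matrix (Fin k) (Fin k) F) *ᵥ a) ((α : Matrix (Fin k) (Fin k) F) *ᵥ b) = sf a b := Iff.rfl

lemma mem_DSA {α : GL (Fin k) F} :
    α ∈ DSA k F ↔ ∃ c : Fˣ, ∀ a b : Fin k → F,
      sf ((α : Matrix (Fin k) (Fin k) F) *ᵥ a) ((α : Matrix (Fin k) (Fin k) F) *ᵥ b) = (c : F) * sf a b := Iff.rfl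

/-! ### the key properties of an overgroup -/

/-- NS (symplectic): an element of `X` mapping a fibre onto a fibre lies in `G` (every `y ≠ 0` is isotropic) -/
abbrev NSS (X : Subgroup (GL (Idx t k) F)) : Prop :=
  Cfsg.Agent.Lib.Helper23.TWUQ.NSp (fun _ : Fin k → F => True) X

/-- FC (symplectic): an element of `X` conjugating a (full) symplectic root group into `G` lies in `G` -/
abbrev FCS (X : Subgroup (GL (Idx t k) F)) : Prop :=
  Cfsg.Agent.Lib.Helper23.TWUQ.FCp (RS : RD t k F → Prop) (Set.univ : Set F) X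

/-- the `J`-elementary symplectic nilpotent `∏_{j ∈ J} slot j (y_j y_j†)`, by its entries
(`= (v v†) ⊗ 1` for the pure vector `v = ⊗_{j∈J} y_j` of `A^{⊗J}`, `v† = sfT_J · v`) -/
def nilS (J : Finset (Fin t)) (y : Fin t → Fin k → F) : Matrix (Idx t k) (Idx t k) F :=
  fun x x' => if ∀ j, j ∉ J → x j = x' j then ∏ j ∈ J, y j (x j) * sfv (y j) (x' j) else 0

/-- XT_J(X) (symplectic; meaningful for ODD `|J|`): all `1 + c nilS J y` (`y j ≠ 0` for `j ∈ J`, all `c : F`) lie in `X` -/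
def XTS (X : Subgroup (GL (Idx t k) F)) (J : Finset (Fin t)) : Prop :=
  ∀ (y : Fin t → Fin k → F) (c : F), (∀ j ∈ J, y j ≠ 0) → InM X (1 + c • nilS J y)

/-- the MAIN THEOREM `T_S(t)` for the model with `t` factors (used for ODD `t`): overgroups of `H` inside the isometry group -/
def MainTS (t k : ℕ) (F : Type*) [Field F] : Prop :=
  ∀ X : Subgroup (GL (Idx t k) F), HS t k F ≤ X → X ≤ GSV t k F →
    X ≤ Gstd t k F ∨ GSV t k F ≤ X

end Cfsg.Agent.Lib.Helper5.TWS
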