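import Mathlib
import Cfsg.Agent.Lib.Helper5.TWS.Defs

/-!
S5668 Stage I: the structures `CtxS`, `KeyS`, `MaxCfgS`, `FRWS` used in the Stage I leaves (`notes/S5668_I_leaves.lean`).
Symplectic twins of `Helper5.TWU.StageIDefs` (`CtxU`, `KeyU`, `MaxCfgU`, `FRWU`): `ugrp hF r` becomes the full root group `r.grp`,
`RU q r` becomes `RS r`, "isotropic" disappears (every `y ≠ 0` is isotropic), `dag q y` becomes `sfv y`.
-/

set_option autoImplicit false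
set_option linter.unusedSectionVars false
set_option linter.unusedVariables false

namespace Cfsg.Agent.Lib.Helper5.TWS
open Matrix Cfsg.Geo Cfsg.Agent.Lib.Helper18.AschA89 Cfsg.Agent.Lib.Helper8.TW
open Cfsg.Agent.Lib.Helper25.SpT (sf Jm sfv)

variable {F : Type*} [Field F] [Fintype F] {t k : ℕ}

/-- the standing hypotheses of Stage I (symplectic); ALL `t ≥ 2` (both parities), `X ≤ DSV` -/
structure CtxS (X : Subgroup (GL (Idx t k) F)) : Prop where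
  hodd : Odd (Fintype.card F)
  hk : Even k
  hk2 : 2 ≤ k
  ht : 2 ≤ t
  hex : ¬ (Fintype.card F = 3 ∧ k = 2)
  hHX : HS t k F ≤ X
  hXD : X ≤ DSV t k F
  ns : NSS X
  fc : FCS X

/-- the output of the fixed point trick (I2) + (I3) for `g` and ADMISSIBLE `r₁`, `r₂`:
`x ∈ ⟨T₁, T'⟩` (full root groups, `T' = g T₂ g⁻¹`) with `x⁻¹ g ∈ G`; `r₃` admissible with `x W₃ = W' = g W₂` -/
structure KeyS (g : GL (Idx t k) F) (r₁ r₂ : RD t k F) (x : GL (Idx t k) F) (r₃ : RD t k F) : Prop where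
  hr₃ : RS r₃
  x_mem : x ∈ r₁.grp ⊔ conjG g r₂.grp
  h_mem : x⁻¹ * g ∈ Gstd t k F
  hW : img x r₃.W = img g r₂.W
  hT : conjG x r₃.grp = conjG g r₂.grp
  h1 : r₃.W ≤ r₁.W ⊔ img g r₂.W
  h2 : img g r₂.W ⊓ r₁.C ≤ r₃.W
  hx1 : ∀ v, mv x v - v ∈ r₁.W ⊔ img g r₂.W
  hx2 : ∀ v ∈ r₁.C ⊓ img g r₂.C, mv x v = v

/-- a configuration `Wf j z ∩ g r₂.W ≠ 0` (`r₂` admissible, `g ∈ X \ G`) of MAXIMAL dimension -/
structure MaxCfgS (X : Subgroup (GL (Idx t k) F)) (g : GL (Idx t k) F) (r₂ : RD t k F) (j : Fin t)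
    (z : Fin k → F) : Prop where
  hgX : g ∈ X
  hgG : g ∉ Gstd t k F
  hr₂ : RS r₂
  hz : z ≠ 0
  hne : Wf j z ⊓ img g r₂.W ≠ ⊥
  hmax : ∀ g' ∈ X, g' ∉ Gstd t k F → ∀ (r' : RD t k F), RS r' → ∀ (j' : Fin t) (z' : Fin k → F), z' ≠ 0 →
    Module.finrank F (Wf j' z' ⊓ img g' r'.W : Submodule F (Idx t k → F)) ≤
      Module.finrank F (Wf j z ⊓ img g r₂.W : Submodule F (Idx t k → F))

/-- the FR world for `g ∈ X \ G`, `r₂` admissible: `W' = g W₂` meets no `W(i,y)^⊥ = C(i,y†)`, `C' = g C₂` meets no `W(i,y)` -/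
structure FRWS (X : Subgroup (GL (Idx t k) F)) (g : GL (Idx t k) F) (r₂ : RD t k F) : Prop where
  hgX : g ∈ X
  hgG : g ∉ Gstd t k F
  hr₂ : RS r₂
  fr1 : ∀ (i : Fin t) (y : Fin k → F), y ≠ 0 → img g r₂.W ⊓ Cf i (sfv y) = ⊥
  fr2 : ∀ (i : Fin t) (y : Fin k → F), y ≠ 0 → Wf i y ⊓ img g r₂.C = ⊥

/-- the NORMALISED PAIR of the minimal triple (Stage I, `k = 2` route; plan §3.2 (S1)): `x ∈ X \ G` lies in `⟨T, x T x⁻¹⟩`, `T = r.grp` -/
structure NP (X : Subgroup (GL (Idx t k) F)) (r : RD t k F) (x : GL (Idx t k) F) : Prop where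
  hr : RS r
  hxX : x ∈ X
  hxG : x ∉ Gstd t k F
  hxL : x ∈ r.grp ⊔ conjG x r.grp

end Cfsg.Agent.Lib.Helper5.TWS
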