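import Mathlib
import Cfsg.Agent.Lib.Helper5.TWS.Defs
import Cfsg.Agent.Lib.Helper5.TWS.StageIDefs
import Cfsg.Agent.Lib.Helper5.TWU.IB0abs
import Cfsg.Agent.Lib.Helper9.TwistNu
import Cfsg.Agent.Lib.Helper16.TWImg
import Cfsg.Agent.Lib.Helper16.TWRootA

/-!
S5668 Stage I leaves (`notes/S5668_I_leaves.lean`): I0 `nonempty_RS`, I6-tw `twistS`, K2-3 `twistNP`, K2-1 `exists_NP` (from the key).
-/

set_option autoImplicit false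
set_option linter.unusedSectionVars false
set_option linter.unusedVariables false

namespace Cfsg.Agent.Lib.Helper5.TWSLeaf
open Matrix Cfsg.Geo Cfsg.Agent.Lib.Helper18.AschA89 Cfsg.Agent.Lib.Helper8.TW Cfsg.Agent.Lib.Helper5.TWS
open Cfsg.Agent.Lib.Helper25.SpT (sf Jm sfv)
open Cfsg.Agent.Lib.Helper16.TWLeaf
open Cfsg.Agent.Lib.Helper5.TWULeaf (b0_mv_inv_mv b0_mv_mul)

variable {F : Type*} [Field F] [Fintype F] {t k : ℕ}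

theorem nonempty_RS (hk : Even k) (hk2 : 2 ≤ k) (ht : 0 < t) : ∃ r : RD t k F, RS r := by
  have h0 : (Pi.single (⟨0, by omega⟩ : Fin k) (1 : F) : Fin k → F) ≠ 0 := by
    intro h
    have := congrFun h ⟨0, by omega⟩
    simp at this
  exact ⟨srd hk ⟨0, ht⟩ _ h0, srd_RS hk ⟨0, ht⟩ _ h0⟩

lemma coe_grp (r : RD t k F) :
    ((r.grp : Subgroup (GL (Idx t k) F)) : Set (GL (Idx t k) F)) = {x | ∃ c ∈ (Set.univ : Set F), x = r.elt c} := by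
  ext x
  constructor
  · rintro ⟨c, rfl⟩
    exact ⟨c, Set.mem_univ _, rfl⟩
  · rintro ⟨c, -, rfl⟩
    exact ⟨c, rfl⟩

lemma coe_conj_grp (g : GL (Idx t k) F) (r : RD t k F) :
    ((conjG g r.grp : Subgroup (GL (Idx t k) F)) : Set (GL (Idx t k) F)) =
      {x | ∃ c ∈ (Set.univ : Set F), x = g * r.elt c * g⁻¹} := by
  ext x
  constructor
  · intro hx
    obtain ⟨u, ⟨c, rfl⟩, rfl⟩ := mem_conjG.1 hx
    exact ⟨c, Set.mem_univ _, rfl⟩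
  · rintro ⟨c, -, rfl⟩
    exact mem_conjG.2 ⟨r.elt c, ⟨c, rfl⟩, rfl⟩

lemma sup_eq_closure (g : GL (Idx t k) F) (r₁ r₂ : RD t k F) :
    r₁.grp ⊔ conjG g r₂.grp =
      Subgroup.closure ({x | ∃ c ∈ (Set.univ : Set F), x = r₁.elt c} ∪
        {x | ∃ c ∈ (Set.univ : Set F), x = g * r₂.elt c * g⁻¹}) := by
  rw [Subgroup.closure_union, ← coe_grp r₁, ← coe_conj_grp g r₂, Subgroup.closure_eq, Subgroup.closure_eq]

lemma N_mulVec_mem_W (r : RD t k F) (v : Idx t k → F) : r.N *ᵥ v ∈ r.W := by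
  rw [← RD_range_N r]
  exact ⟨v, by rw [Matrix.toLin'_apply]⟩

lemma N_mulVec_eq_zero (r : RD t k F) {v : Idx t k → F} (hv : v ∈ r.C) : r.N *ᵥ v = 0 := by
  rw [← RD_ker_N r] at hv
  have := LinearMap.mem_ker.1 hv
  rwa [Matrix.toLin'_apply] at this

lemma mv_mem_img {g : GL (Idx t k) F} {S : Submodule F (Idx t k → F)} {v : Idx t k → F} (hv : v ∈ S) :
    mv g v ∈ img g S := ⟨v, hv, by rw [Matrix.toLin'_apply]; rfl⟩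

lemma inv_mv_mem_of_mem_img {g : GL (Idx t k) F} {S : Submodule F (Idx t k → F)} {v : Idx t k → F}
    (hv : v ∈ img g S) : mv g⁻¹ v ∈ S := by
  obtain ⟨w, hw, rfl⟩ := hv
  rw [Matrix.toLin'_apply]
  change mv g⁻¹ (mv g w) ∈ S
  rw [b0_mv_inv_mv]
  exact hw

/-- the abstract twist for two conjugate-type root groups `r₁.grp`, `g r₂.grp g⁻¹` -/
theorem twist_core (g : GL (Idx t k) F) (r₁ r₂ : RD t k F) (x : GL (Idx t k) F)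
    (hx : x ∈ r₁.grp ⊔ conjG g r₂.grp) (hmap : ∀ v ∈ r₁.W, mv x v ∈ img g r₂.W)
    (Y K : Submodule F (Idx t k → F)) (hY1 : Y ≤ r₁.C) (hY2 : Y ≤ img g r₂.C)
    (hK1 : K ≤ r₁.W ⊓ img g r₂.W) (hKY : K ≤ Y) (hK2 : r₁.W ⊓ (img g r₂.W ⊔ Y) ≤ K)
    (ν : F) (hν0 : ν ≠ 0) :
    ∃ b₀ ∈ r₁.grp ⊔ conjG g r₂.grp, (∀ v ∈ Y, mv b₀ v = v) ∧
      (∀ v ∈ r₁.W, mv b₀ v - ν⁻¹ • v ∈ K) ∧
      (∀ v ∈ img g r₂.W ⊔ Y, ∀ p ∈ r₁.W, ∀ p'' ∈ img g r₂.W ⊔ Y, mv x v = p + p'' →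
        mv x (mv b₀ v) - (ν • p + p'') ∈ K) := by
  rw [sup_eq_closure g r₁ r₂]
  have hWC' : img g r₂.W ≤ img g r₂.C := (img_le_img_iff g _ _).2 (RD_W_le_C r₂)
  refine Cfsg.Agent.Lib.Helper9.TwistNu.exists_twist r₁.N
    ((g : Matrix (Idx t k) (Idx t k) F) * r₂.N * ((g⁻¹ : GL (Idx t k) F) : Matrix (Idx t k) (Idx t k) F))
    r₁.W (img g r₂.W) Y K ?_ ?_ ?_ ?_ (hK1.trans inf_le_left) (hK1.trans inf_le_right) hKY hK2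
    (Set.univ : Set F) (fun _ _ => Set.mem_univ _) ν hν0 (fun _ _ => Set.mem_univ _) (fun _ _ => Set.mem_univ _)
    (fun d => r₁.elt d) (fun d => g * r₂.elt d * g⁻¹) ?_ ?_ x ?_ hmap
  · exact fun v => N_mulVec_mem_W r₁ v
  · intro v
    rw [← Matrix.mulVec_mulVec, ← Matrix.mulVec_mulVec]
    exact mv_mem_img (N_mulVec_mem_W r₂ _)
  · intro v hv
    apply N_mulVec_eq_zero
    exact (sup_le (RD_W_le_C r₁) hY1) hv
  · intro v hv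
    have hv' : v ∈ img g r₂.C := (sup_le hWC' hY2) hv
    rw [← Matrix.mulVec_mulVec, ← Matrix.mulVec_mulVec]
    have h0 : r₂.N *ᵥ (((g⁻¹ : GL (Idx t k) F) : Matrix (Idx t k) (Idx t k) F) *ᵥ v) = 0 :=
      N_mulVec_eq_zero r₂ (inv_mv_mem_of_mem_img hv')
    rw [h0, Matrix.mulVec_zero]
  · intro d
    rfl
  · intro d
    rw [Units.val_mul, Units.val_mul, RD.elt_val, mul_add, add_mul, mul_one, ← Units.val_mul, mul_inv_cancel,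
      Units.val_one, Matrix.mul_smul, Matrix.smul_mul]
  · rw [← sup_eq_closure g r₁ r₂]
    exact hx

/-- I6-tw THE TWIST in the model -/
theorem twistS {X : Subgroup (GL (Idx t k) F)} (c : CtxS X) (g : GL (Idx t k) F) (r₁ r₂ : RD t k F) (hr₁ : RS r₁)
    (hr₂ : RS r₂) (x : GL (Idx t k) F) (K' : KeyS g r₁ r₂ x r₁) (K : Submodule F (Idx t k → F))
    (hK1 : K ≤ r₁.W ⊓ img g r₂.W) (hK2 : r₁.W ⊓ (img g r₂.W ⊔ (r₁.C ⊓ img g r₂.C)) ≤ K) (hKY : K ≤ r₁.C ⊓ img g r₂.C)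
    (ν : F) (hν0 : ν ≠ 0) :
    ∃ b₀ ∈ r₁.grp ⊔ conjG g r₂.grp, (∀ v ∈ r₁.C ⊓ img g r₂.C, mv b₀ v = v) ∧
      (∀ v ∈ r₁.W, mv b₀ v - ν⁻¹ • v ∈ K) ∧
      (∀ v ∈ img g r₂.W ⊔ (r₁.C ⊓ img g r₂.C), ∀ p ∈ r₁.W, ∀ p'' ∈ img g r₂.W ⊔ (r₁.C ⊓ img g r₂.C), mv x v = p + p'' →
        mv x (mv b₀ v) - (ν • p + p'') ∈ K) := by
  refine twist_core g r₁ r₂ x K'.x_mem ?_ (r₁.C ⊓ img g r₂.C) K inf_le_left inf_le_right hK1 hKY hK2 ν hν0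
  intro v hv
  rw [← K'.hW]
  exact mv_mem_img hv

/-- K2-3 the twist for a normalised pair, `Y := K := R ⊓ R''` -/
theorem twistNP {X : Subgroup (GL (Idx t k) F)} (r : RD t k F) (x : GL (Idx t k) F) (P : NP X r x)
    (μ : F) (hμ : μ ≠ 0) :
    ∃ T ∈ r.grp ⊔ conjG x r.grp, (∀ v ∈ r.W ⊓ img x r.W, mv T v = v) ∧
      (∀ v ∈ r.W, mv T v - μ⁻¹ • v ∈ r.W ⊓ img x r.W) ∧
      (∀ v ∈ img x r.W, ∀ p ∈ r.W, ∀ p'' ∈ img x r.W, mv x v = p + p'' →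
        mv x (mv T v) - (μ • p + p'') ∈ r.W ⊓ img x r.W) := by
  have hWC' : img x r.W ≤ img x r.C := (img_le_img_iff x _ _).2 (RD_W_le_C r)
  have hsup : img x r.W ⊔ (r.W ⊓ img x r.W) = img x r.W := sup_eq_left.2 inf_le_right
  obtain ⟨T, hT, h1, h2, h3⟩ := twist_core x r r x P.hxL (fun v hv => mv_mem_img hv) (r.W ⊓ img x r.W) (r.W ⊓ img x r.W)
    (inf_le_left.trans (RD_W_le_C r)) (inf_le_right.trans hWC') le_rfl le_rfl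
    (by rw [hsup]) μ hμ
  refine ⟨T, hT, h1, h2, ?_⟩
  intro v hv p hp p'' hp'' hdec
  exact h3 v (Submodule.mem_sup_left hv) p hp p'' (Submodule.mem_sup_left hp'') hdec

/-- K2-1 MINIMAL TRIPLE, from the key and `r.grp ≤ X` -/
theorem exists_NP_of_key {X : Subgroup (GL (Idx t k) F)} (hk : Even k) (hk2 : 2 ≤ k) (ht : 0 < t)
    (hgrp : ∀ r : RD t k F, RS r → r.grp ≤ X)
    (hkey : ∀ g ∈ X, ∀ r₁ r₂ : RD t k F, RS r₁ → RS r₂ → ∃ (x : GL (Idx t k) F) (r₃ : RD t k F), KeyS g r₁ r₂ x r₃)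
    (hXG : ¬ X ≤ Gstd t k F) :
    ∃ (r : RD t k F) (x : GL (Idx t k) F), NP X r x := by
  classical
  obtain ⟨g₀, hg₀X, hg₀G⟩ := SetLike.not_le_iff_exists.1 hXG
  obtain ⟨r₀, hr₀⟩ := nonempty_RS (F := F) (t := t) (k := k) hk hk2 ht
  let Pn : ℕ → Prop := fun n => ∃ (r₁ r₂ : RD t k F) (g : GL (Idx t k) F), RS r₁ ∧ RS r₂ ∧ g ∈ X ∧ g ∉ Gstd t k F ∧
    Nat.card (r₁.grp ⊔ conjG g r₂.grp : Subgroup (GL (Idx t k) F)) = n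
  have hex : ∃ n, Pn n := ⟨_, r₀, r₀, g₀, hr₀, hr₀, hg₀X, hg₀G, rfl⟩
  obtain ⟨r₁, r₂, g, hr₁, hr₂, hgX, hgG, hcard⟩ := Nat.find_spec hex
  obtain ⟨x, r₃, K⟩ := hkey g hgX r₁ r₂ hr₁ hr₂
  have hG0X : r₁.grp ⊔ conjG g r₂.grp ≤ X := by
    apply sup_le (hgrp r₁ hr₁)
    intro b hb
    obtain ⟨a, ha, rfl⟩ := mem_conjG.1 hb
    exact X.mul_mem (X.mul_mem hgX (hgrp r₂ hr₂ ha)) (X.inv_mem hgX)
  have hxX : x ∈ X := hG0X K.x_mem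
  have hxG : x ∉ Gstd t k F := by
    intro h
    apply hgG
    have : g = x * (x⁻¹ * g) := by group
    rw [this]
    exact (Gstd t k F).mul_mem h K.h_mem
  have hc2 : conjG x r₃.grp ≤ r₁.grp ⊔ conjG g r₂.grp := by
    rw [K.hT]
    exact le_sup_right
  have hc1 : r₃.grp ≤ r₁.grp ⊔ conjG g r₂.grp := by
    intro u hu
    have h1 : x * u * x⁻¹ ∈ r₁.grp ⊔ conjG g r₂.grp := hc2 (mem_conjG.2 ⟨u, hu, rfl⟩)
    have h2 : u = x⁻¹ * (x * u * x⁻¹) * x := by group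
    rw [h2]
    exact Subgroup.mul_mem _ (Subgroup.mul_mem _ (Subgroup.inv_mem _ K.x_mem) h1) K.x_mem
  have hle : r₃.grp ⊔ conjG x r₃.grp ≤ r₁.grp ⊔ conjG g r₂.grp := sup_le hc1 hc2
  have hmin : Nat.find hex ≤ Nat.card (r₃.grp ⊔ conjG x r₃.grp : Subgroup (GL (Idx t k) F)) :=
    Nat.find_min' hex ⟨r₃, r₃, x, K.hr₃, K.hr₃, hxX, hxG, rfl⟩
  have heq : r₃.grp ⊔ conjG x r₃.grp = r₁.grp ⊔ conjG g r₂.grp := by
    apply Subgroup.eq_of_le_of_card_ge hle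
    rw [hcard]
    exact hmin
  refine ⟨r₃, x, K.hr₃, hxX, hxG, ?_⟩
  rw [heq]
  exact K.x_mem

end Cfsg.Agent.Lib.Helper5.TWSLeaf
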