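import Mathlib
import Cfsg.Agent.Lib.Helper5.TWS.Defs
import Cfsg.Agent.Lib.Helper14.TWIIDefs

/-!
# S5668 (C7 symplectic): the induction on the (odd) number of tensor factors

`mainTS_of_stages`: `MainTS t k F` for all odd `t ≥ 3` from the stage theorems (given as hypotheses here, in the EXACT
interface shapes of `notes/S5668_plan.md` §1; they are supplied in `Cfsg.Agent.Lib.Helper5.TWS.Main`).
-/

set_option autoImplicit false
set_option linter.unusedSectionVars false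
set_option linter.unusedVariables false

namespace Cfsg.Agent.Lib.Helper5.TWS
open Matrix Cfsg.Geo Cfsg.Agent.Lib.Helper18.AschA89 Cfsg.Agent.Lib.Helper8.TW
open Cfsg.Agent.Lib.Helper25.SpT (sf Jm sfv)
open Cfsg.Agent.Lib.Helper14.TWII (InZ)

variable {F : Type*} [Field F] [Fintype F] {k : ℕ}

/-- Stage II from the descent (D_t) and Case A -/
theorem stageIIS_of
    (hDesc : ∀ (t : ℕ) (X : Subgroup (GL (Idx (t + 1) k) F)), HS (t + 1) k F ≤ X → X ≤ DSV (t + 1) k F →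
      ¬ X ≤ Gstd (t + 1) k F → ∃ (j : Fin (t + 1)) (z : Fin k → F), z ≠ 0 ∧ ∃ u ∈ X, u ∉ Gstd (t + 1) k F ∧ InZ j z u)
    (hA : ∀ t, Odd t → 3 ≤ t → ∀ X : Subgroup (GL (Idx t k) F), HS t k F ≤ X → X ≤ GSV t k F →
      ∀ (j : Fin t) (z : Fin k → F), z ≠ 0 → ∀ u : GL (Idx t k) F, u ∈ X → u ∉ Gstd t k F → InZ j z u →
        ∃ J : Finset (Fin t), Odd J.card ∧ 3 ≤ J.card ∧ XTS X J)
    (t : ℕ) (ht : Odd t) (ht3 : 3 ≤ t) (X : Subgroup (GL (Idx t k) F)) (hHX : HS t k F ≤ X) (hXG : X ≤ GSV t k F)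
    (hNS : ¬ NSS X) : ∃ J : Finset (Fin t), Odd J.card ∧ 3 ≤ J.card ∧ XTS X J := by
  have hnot : ¬ X ≤ Gstd t k F := by
    intro hle
    apply hNS
    intro g hg _
    exact hle hg
  obtain ⟨t', rfl⟩ : ∃ t', t = t' + 1 := ⟨t - 1, by omega⟩
  obtain ⟨j, z, hz, u, huX, huG, hu⟩ := hDesc t' X hHX (hXG.trans GSV_le_DSV) hnot
  exact hA (t' + 1) ht ht3 X hHX hXG j z hz u huX huG hu

theorem mainTS_of_stages
    (hI : ∀ t, 2 ≤ t → ∀ X : Subgroup (GL (Idx t k) F), HS t k F ≤ X → X ≤ DSV t k F → NSS X → X ≤ Gstd t k F)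
    (hII : ∀ t, Odd t → 3 ≤ t → ∀ X : Subgroup (GL (Idx t k) F), HS t k F ≤ X → X ≤ GSV t k F → ¬ NSS X →
      ∃ J : Finset (Fin t), Odd J.card ∧ 3 ≤ J.card ∧ XTS X J)
    (hIII : ∀ t, Odd t → 3 ≤ t → (∀ t', Odd t' → 3 ≤ t' → t' < t → MainTS t' k F) →
      ∀ X : Subgroup (GL (Idx t k) F), HS t k F ≤ X → X ≤ GSV t k F →
      ∀ J : Finset (Fin t), Odd J.card → 3 ≤ J.card → XTS X J → GSV t k F ≤ X) :
    ∀ t, Odd t → 3 ≤ t → MainTS t k F := by
  intro t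
  induction t using Nat.strong_induction_on with
  | _ t ih =>
    intro ht ht3 X hHX hXG
    by_cases hNS : NSS X
    · exact Or.inl (hI t (by omega) X hHX (hXG.trans GSV_le_DSV) hNS)
    · obtain ⟨J, hJ, hJ3, hXT⟩ := hII t ht ht3 X hHX hXG hNS
      exact Or.inr (hIII t ht ht3 (fun t' ht' ht3' hlt => ih t' hlt ht' ht3') X hHX hXG J hJ hJ3 hXT)

end Cfsg.Agent.Lib.Helper5.TWS
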