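import Mathlib
import Cfsg.Agent.Lib.Helper5.TWS.Defs
import Cfsg.Agent.Lib.Helper23.TWUQMain

/-!
S5668 block (Q') for the symplectic layer: `rigid2` = `Helper23.TWUQFinal.rigid` for `2 ≤ m` (first branch of `hS` only;
`rootlike_is_root_two` has `hm : 2 ≤ m`), `fcS_of_nsS : NSS X → FCS X`.  Leaves Q-2, Q-S of `notes/S5668_I_leaves.lean`.
-/

set_option autoImplicit false
set_option linter.unusedSectionVars false
set_option linter.unusedVariables false

namespace Cfsg.Agent.Lib.Helper5.TWSLeaf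
open Matrix Cfsg.Geo Cfsg.Agent.Lib.Helper18.AschA89 Cfsg.Agent.Lib.Helper20.AschLeaf Cfsg.Agent.Lib.Helper8.TW
open Cfsg.Agent.Lib.Helper5.TWS
open Cfsg.Agent.Lib.Helper23.TWUQ
open Cfsg.Agent.Lib.Helper6.TWQFinal (root_of_slot rootN_ne_zero)
open Cfsg.Agent.Lib.Helper23.TWUQLeaf (rootlike_is_root_two)

variable {F : Type*} [Field F] [Fintype F] {t k : ℕ}

/-- Q-2 `rigid` for `2 ≤ m` -/
theorem rigid2 {m : ℕ} (hm : 2 ≤ m) (S : Set F) (hS : ∃ c₁ ∈ S, ∃ c₂ ∈ S, c₁ ≠ 0 ∧ c₂ ≠ 0 ∧ c₁ ≠ c₂)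
    (r : RD t m F) (g : GL (Idx t m) F) (hconj : ∀ c ∈ S, g⁻¹ * r.elt c * g ∈ Gstd t m F) :
    ∃ (j : Fin t) (z : Fin m → F), z ≠ 0 ∧ img g (Wf j z) = Wf r.i r.y := by
  set G : Matrix (Idx t m) (Idx t m) F := (g : Matrix (Idx t m) (Idx t m) F) with hGdef
  set Gi : Matrix (Idx t m) (Idx t m) F := ((g⁻¹ : GL (Idx t m) F) : Matrix (Idx t m) (Idx t m) F) with hGidef
  have hGGi : G * Gi = 1 := by rw [hGdef, hGidef, ← Units.val_mul, mul_inv_cancel, Units.val_one]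
  have hGiG : Gi * G = 1 := by rw [hGdef, hGidef, ← Units.val_mul, inv_mul_cancel, Units.val_one]
  have hval : ∀ c : F, ((g⁻¹ * r.elt c * g : GL (Idx t m) F) : Matrix (Idx t m) (Idx t m) F) =
      1 + c • (Gi * r.N * G) := by
    intro c
    rw [Units.val_mul, Units.val_mul, RD.elt_val, mul_add, add_mul, mul_one]
    change Gi * G + Gi * (c • r.N) * G = _
    rw [hGiG, Matrix.mul_smul, Matrix.smul_mul]
  have hN0 : Gi * r.N * G ≠ 0 := by
    intro h0
    apply rootN_ne_zero r.i r.hy r.hη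
    change r.N = 0
    have : G * (Gi * r.N * G) * Gi = r.N := by
      rw [← mul_assoc, ← mul_assoc, hGGi, one_mul, mul_assoc, hGGi, mul_one]
    rw [← this, h0, mul_zero, zero_mul]
  have hNN : (Gi * r.N * G) * (Gi * r.N * G) = 0 := by
    have : (Gi * r.N * G) * (Gi * r.N * G) = Gi * (r.N * r.N) * G := by
      calc Gi * r.N * G * (Gi * r.N * G) = Gi * r.N * (G * Gi) * r.N * G := by simp only [mul_assoc]
        _ = Gi * (r.N * r.N) * G := by rw [hGGi]; simp only [mul_one, mul_assoc]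
    rw [this, r.N_sq, mul_zero, zero_mul]
  have hrk : (Gi * r.N * G).rank ≤ m ^ (t - 1) := by
    have hdet1 : IsUnit G.det := (Matrix.isUnit_iff_isUnit_det _).1 (g.isUnit)
    have hdet2 : IsUnit Gi.det := (Matrix.isUnit_iff_isUnit_det _).1 ((g⁻¹).isUnit)
    rw [Matrix.rank_mul_eq_left_of_isUnit_det _ _ hdet1, Matrix.rank_mul_eq_right_of_isUnit_det _ _ hdet2]
    change (slot m t r.i (Matrix.vecMulVec r.y r.η)).rank ≤ _
    rw [Cfsg.Agent.Lib.Helper6.TWQ.rank_slot]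
    calc (Matrix.vecMulVec r.y r.η).rank * m ^ (t - 1) ≤ 1 * m ^ (t - 1) :=
          Nat.mul_le_mul_right _ (Matrix.rank_vecMulVec_le _ _)
      _ = m ^ (t - 1) := one_mul _
  -- a non-zero multiple `c₁ N'` is a root nilpotent
  have key : ∃ (c₁ : F) (j : Fin t) (z ζ : Fin m → F), c₁ ≠ 0 ∧ z ≠ 0 ∧ ζ ≠ 0 ∧
      c₁ • (Gi * r.N * G) = rootN j z ζ := by
    have hsm0 : ∀ c₁ : F, c₁ ≠ 0 → c₁ • (Gi * r.N * G) ≠ 0 := by
      intro c₁ hc₁ h
      rcases smul_eq_zero.1 h with h | h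
      · exact hc₁ h
      · exact hN0 h
    have hsmNN : ∀ c₁ : F, (c₁ • (Gi * r.N * G)) * (c₁ • (Gi * r.N * G)) = 0 := by
      intro c₁
      rw [Matrix.smul_mul, Matrix.mul_smul, hNN, smul_zero, smul_zero]
    have hsmrk : ∀ c₁ : F, (c₁ • (Gi * r.N * G)).rank ≤ m ^ (t - 1) := by
      intro c₁
      by_cases hc₁ : c₁ = 0
      · rw [hc₁, zero_smul, Matrix.rank_zero]; exact Nat.zero_le _
      · have : (c₁ • (Gi * r.N * G)).rank = (Gi * r.N * G).rank := by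
          have hu : IsUnit c₁ := isUnit_iff_ne_zero.2 hc₁
          have e : c₁ • (Gi * r.N * G) = (c₁ • (1 : Matrix (Idx t m) (Idx t m) F)) * (Gi * r.N * G) := by
            rw [Matrix.smul_mul, Matrix.one_mul]
          rw [e]
          apply Matrix.rank_mul_eq_right_of_isUnit_det
          rw [Matrix.det_smul, Matrix.det_one, mul_one]
          exact hu.pow _
        rw [this]; exact hrk
    obtain ⟨c₁, hc₁S, c₂, hc₂S, hc₁, hc₂, hne⟩ := hS
    · have hdiv0 : c₂ / c₁ ≠ 0 := div_ne_zero hc₂ hc₁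
      have hdiv1 : c₂ / c₁ ≠ 1 := by
        intro h
        apply hne
        rw [div_eq_one_iff_eq hc₁] at h
        exact h.symm
      obtain ⟨j, z, ζ, hz, hζ, -, hN⟩ := rootlike_is_root_two hm _ (hsm0 c₁ hc₁) (hsmNN c₁) (hsmrk c₁)
        (c₂ / c₁) hdiv0 hdiv1 ⟨_, hconj c₁ hc₁S, hval c₁⟩
        ⟨_, hconj c₂ hc₂S, by rw [hval c₂, smul_smul, div_mul_cancel₀ _ hc₁]⟩
      exact ⟨c₁, j, z, ζ, hc₁, hz, hζ, hN⟩
  obtain ⟨c₁, j, z, ζ, hc₁, hz, hζ, hN'⟩ := key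
  refine ⟨j, z, hz, ?_⟩
  have h1 := Cfsg.Agent.Lib.Helper6.TWLeaf.range_conj g (rootN j z ζ)
  rw [← hN'] at h1
  have h3 : G * (c₁ • (Gi * r.N * G)) * Gi = c₁ • r.N := by
    rw [Matrix.mul_smul, Matrix.smul_mul, ← mul_assoc, ← mul_assoc, hGGi, one_mul, mul_assoc, hGGi, mul_one]
  rw [h3, hN', Cfsg.Agent.Lib.Helper6.TWLeaf.range_rootN j z ζ hζ] at h1
  have h4 : LinearMap.range (Matrix.toLin' (c₁ • r.N)) = Wf r.i r.y := by
    have e : c₁ • r.N = rootN r.i r.y (c₁ • r.η) := by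
      change c₁ • slot m t r.i (Matrix.vecMulVec r.y r.η) = slot m t r.i (Matrix.vecMulVec r.y (c₁ • r.η))
      rw [← Cfsg.Agent.Lib.Helper8.TW.slot_smul]
      congr 1
      ext a b
      simp only [Matrix.smul_apply, Matrix.vecMulVec_apply, Pi.smul_apply, smul_eq_mul]
      ring
    rw [e]
    exact Cfsg.Agent.Lib.Helper6.TWLeaf.range_rootN r.i r.y (c₁ • r.η) (smul_ne_zero hc₁ r.hη)
  rw [h4] at h1
  exact h1.symm


/-- Q-S (Q') for the symplectic layer: `NSS ⟹ FCS` -/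
theorem fcS_of_nsS (hodd : Odd (Fintype.card F)) (hk2 : 2 ≤ k) (X : Subgroup (GL (Idx t k) F)) (hNS : NSS X) : FCS X := by
  intro r hr g hgX hconj
  have h2 : (2 : F) ≠ 0 := by
    intro h
    have hchar : ringChar F = 2 := by
      have hdvd : ringChar F ∣ 2 := by
        have := (ringChar.spec F 2).mp (by exact_mod_cast h)
        exact_mod_cast this
      have hp : (ringChar F).Prime := CharP.char_is_prime F (ringChar F)
      exact (Nat.prime_dvd_prime_iff_eq hp Nat.prime_two).mp hdvd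
    have : Even (Fintype.card F) :=
      Nat.even_iff.mpr (FiniteField.even_card_iff_char_two.mp hchar)
    exact (Nat.not_even_iff_odd.mpr hodd) this
  have h11 : (1 : F) ≠ -1 := by
    intro h
    apply h2
    have : (1 : F) + 1 = 0 := by nth_rewrite 2 [h]; ring
    rw [← this]; norm_num
  obtain ⟨j, z, hz, himg⟩ := rigid2 hk2 (Set.univ : Set F)
    ⟨1, Set.mem_univ _, -1, Set.mem_univ _, one_ne_zero, neg_ne_zero.2 one_ne_zero, h11⟩ r g hconj
  exact hNS g hgX ⟨j, r.i, z, r.y, hz, r.hy, trivial, trivial, himg⟩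

end Cfsg.Agent.Lib.Helper5.TWSLeaf
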