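import Mathlib
import Cfsg.Agent.Lib.Helper5.TWS.Defs
import Cfsg.Agent.Lib.Helper5.TWS.StageIDefs
import Cfsg.Agent.Lib.Helper5.TWS.ITwist
import Cfsg.Agent.Lib.Helper5.TWS.Q
import Cfsg.Agent.Lib.Helper9.TWST
import Cfsg.Agent.Lib.Helper13.TWSINonopp
import Cfsg.Agent.Lib.Helper22.TWSI4cdCore
import Cfsg.Agent.Lib.Helper28.TWSI5
import Cfsg.Agent.Lib.Helper28.TWSIFRcore
import Cfsg.Agent.Lib.Helper1.TWST2A
import Cfsg.Agent.Lib.Helper18.TWSITFormCore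
import Cfsg.Agent.Lib.Helper18.TWSIOppCore
import Cfsg.Agent.Lib.Helper17.TWSIKey
import Cfsg.Agent.Lib.Helper24.TWSI4a
import Cfsg.Agent.Lib.Helper6.TWSI6
import Cfsg.Agent.Lib.Helper16.TWSISim
import Cfsg.Agent.Lib.Helper24.TWSI4b
import Cfsg.Agent.Lib.Helper13.TWSIFlag

/-!
# S5668 (C7 symplectic), STAGE I: `HS ≤ X ≤ DSV`, `NSS X` ⟹ `X ≤ Gstd`  (planner helper5; ALL `t ≥ 2`, both parities)

Assembly of the leaves of `notes/S5668_I_leaves.lean` (paper proof `notes/S5668_plan.md` §3), proved by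
helper5, helper6, helper9, helper10, helper13, helper16, helper17, helper18, helper22, helper24, helper28.
-/

set_option autoImplicit false
set_option linter.unusedSectionVars false
set_option linter.unusedVariables false

namespace Cfsg.Agent.Lib.Helper5.TWS.StageI
open Matrix Cfsg.Geo Cfsg.Agent.Lib.Helper18.AschA89 Cfsg.Agent.Lib.Helper8.TW Cfsg.Agent.Lib.Helper5.TWS
open Cfsg.Agent.Lib.Helper25.SpT (sf Jm sfv)
open Cfsg.Agent.Lib.Helper23.TWUQ (NSp FCp)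
open Cfsg.Agent.Lib.Helper5.TWSLeaf (nonempty_RS twistNP exists_NP_of_key fcS_of_nsS)
open Cfsg.Agent.Lib.Helper28.TWSLeaf (exists_maxCfgS L_eq_L0 exists_perp fr1S_of_key fr2S)
open Cfsg.Agent.Lib.Helper22.TWSLeaf (gamma_count thinS_core)
open Cfsg.Agent.Lib.Helper18.TWSLeaf (T_form_of opp_case_of)
open Cfsg.Agent.Lib.Helper17.TWSLeaf (keyS keyS_congr)
open Cfsg.Agent.Lib.Helper24.TWSLeaf (same_pos_ti same_pos_hyp)
open Cfsg.Agent.Lib.Helper6.TWSLeaf (step6)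
open Cfsg.Agent.Lib.Helper16.TWSLeaf (sim_of_ext_slot)
open Cfsg.Agent.Lib.Helper13.TWSLeaf (nonopp flag_case)

variable {F : Type*} [Field F] [Fintype F] {t k : ℕ}

theorem fr1S {X : Subgroup (GL (Idx t k) F)} (c : CtxS X)
    (hδ : ∀ g ∈ X, g ∉ Gstd t k F → ∀ (r₂ : RD t k F), RS r₂ → ∀ (j : Fin t) (z : Fin k → F), z ≠ 0 →
      Wf j z ⊓ img g r₂.W = ⊥)
    (g : GL (Idx t k) F) (hgX : g ∈ X) (hgG : g ∉ Gstd t k F) (r₂ : RD t k F) (hr₂ : RS r₂) (i : Fin t)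
    (y : Fin k → F) (hy0 : y ≠ 0) : img g r₂.W ⊓ Cf i (sfv y) = ⊥ :=
  fr1S_of_key c (fun g hg r₁ r₂ h₁ h₂ => keyS c g hg r₁ r₂ h₁ h₂) hδ g hgX hgG r₂ hr₂ i y hy0

theorem thinS {X : Subgroup (GL (Idx t k) F)} (c : CtxS X) (g : GL (Idx t k) F) (hgX : g ∈ X)
    (hgG : g ∉ Gstd t k F) (r₂ : RD t k F) (hr₂ : RS r₂) (i : Fin t) (Y : Submodule F (Fin k → F))
    (y₀ : Fin k → F) (hy₀0 : y₀ ≠ 0) (hY : ∀ a ∈ Y, sf a y₀ = 0) :
    ¬ img g r₂.W ≤ fib i Y :=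
  thinS_core c g hgX hgG r₂ hr₂ i Y y₀ hy₀0 hY
    (keyS c g hgX (srd c.hk i y₀ hy₀0) r₂ (srd_RS c.hk i y₀ hy₀0) hr₂)

/-- K2-1 MINIMAL TRIPLE -/
theorem exists_NP {X : Subgroup (GL (Idx t k) F)} (c : CtxS X) (hXG : ¬ X ≤ Gstd t k F) :
    ∃ (r : RD t k F) (x : GL (Idx t k) F), NP X r x :=
  exists_NP_of_key c.hk c.hk2 (by have := c.ht; omega)
    (fun r hr => (Cfsg.Agent.Lib.Helper9.TWST.grp_le_HS c.hk hr).trans c.hHX)
    (fun g hg r₁ r₂ h₁ h₂ => keyS c g hg r₁ r₂ h₁ h₂) hXG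

/-- K2-4 STRUCTURE of `T_μ` -/
theorem T_form {X : Subgroup (GL (Idx (t + 1) k) F)} (c : CtxS X) (r : RD (t + 1) k F) (x : GL (Idx (t + 1) k) F) (P : NP X r x)
    (K : Submodule F (Idx (t + 1) k → F)) (hK : K ≤ r.W)
    (μ : F) (hμ : μ ≠ 0) (T : GL (Idx (t + 1) k) F) (hT : T ∈ r.grp ⊔ conjG x r.grp)
    (ha : ∀ v ∈ K, mv T v = v) (hb : ∀ v ∈ r.W, mv T v - μ⁻¹ • v ∈ K) :
    ∃ (γ : Matrix (Idx t k) (Idx t k) F) (α : Matrix (Fin k) (Fin k) F) (ν : F), ν ≠ 0 ∧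
      (T : Matrix (Idx (t + 1) k) (Idx (t + 1) k) F) = ext r.i γ * slot k (t + 1) r.i α ∧ α *ᵥ r.y = r.y ∧
      (∀ b b' : Idx t k → F, sfT (γ *ᵥ b) (γ *ᵥ b') = ν * sfT b b') ∧
      (∀ a a' : Fin k → F, sf (α *ᵥ a) (α *ᵥ a') = ν⁻¹ * sf a a') ∧
      (∀ b : Idx t k → F, tens r.i b r.y ∈ K → γ *ᵥ b = b) ∧
      (∀ b : Idx t k → F, tens r.i (γ *ᵥ b - μ⁻¹ • b) r.y ∈ K) :=
  T_form_of (fun r hr d => Cfsg.Agent.Lib.Helper9.TWST.elt_mem_HS c.hk hr d) (sim_of_ext_slot c.hk c.hk2) c r x P.hr P.hxX K hK μ hμ T hT ha hb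

/-- K2-8 THE OPPOSITE CASE -/
theorem opp_case {X : Subgroup (GL (Idx (t + 1) k) F)} (c : CtxS X) (hk : k = 2) (r : RD (t + 1) k F) (x : GL (Idx (t + 1) k) F) (P : NP X r x)
    (hK : r.W ⊓ img x r.W = ⊥) : False :=
  opp_case_of (fun r hr d => Cfsg.Agent.Lib.Helper9.TWST.elt_mem_HS c.hk hr d) (sim_of_ext_slot c.hk c.hk2)
    (fun v h => Cfsg.Agent.Lib.Helper1.TWSLeaf.sfT_nondeg c.hk h) c hk r x P.hr P.hxX P.hxG
    (fun μ hμ => twistNP r x P μ hμ) hK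

/-- the trichotomy: after changing `x`, either (α) `W₃ = W₁` or (γ) another position -/
theorem key_tri {X : Subgroup (GL (Idx t k) F)} (c : CtxS X) (g : GL (Idx t k) F) (hgX : g ∈ X)
    (hgG : g ∉ Gstd t k F) (r₁ r₂ : RD t k F) (hr₁ : RS r₁) (hr₂ : RS r₂) :
    ∃ (x : GL (Idx t k) F) (r₃ : RD t k F), KeyS g r₁ r₂ x r₃ ∧ (r₃.W = r₁.W ∨ r₃.i ≠ r₁.i) := by
  obtain ⟨x, r₃, K⟩ := keyS c g hgX r₁ r₂ hr₁ hr₂
  by_cases hi : r₃.i = r₁.i
  · by_cases hW : r₃.W = r₁.W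
    · exact ⟨x, r₃, K, Or.inl hW⟩
    · by_cases hp : sf r₁.y r₃.y = 0
      · exact (same_pos_ti c g hgX hgG r₁ r₂ r₃ hr₁ hr₂ x K hi hW hp).elim
      · obtain ⟨x', K'⟩ := same_pos_hyp c g hgX r₁ r₂ r₃ hr₁ hr₂ x K hi hp
        exact ⟨x', r₁, K', Or.inl rfl⟩
  · exact ⟨x, r₃, K, Or.inr hi⟩

/-- `δ = 0` for `k ≥ 4` -/
theorem delta_zero_four {X : Subgroup (GL (Idx t k) F)} (c : CtxS X) (hk4 : 4 ≤ k) :
    ∀ g ∈ X, g ∉ Gstd t k F → ∀ (r₂ : RD t k F), RS r₂ → ∀ (j : Fin t) (z : Fin k → F), z ≠ 0 →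
      Wf j z ⊓ img g r₂.W = ⊥ := by
  by_contra hcon
  push Not at hcon
  obtain ⟨g₀, hgX₀, hgG₀, r₂₀, hr₂₀, j₀, z₀, hz₀, hne₀⟩ := hcon
  obtain ⟨g, r₂, j, z, M⟩ := exists_maxCfgS X ⟨g₀, hgX₀, hgG₀, r₂₀, hr₂₀, j₀, z₀, hz₀, hne₀⟩
  obtain ⟨y, hy0, hyz, hind⟩ := exists_perp (F := F) c.hk hk4 z M.hz
  have hzy : sf z y = 0 := by rw [Cfsg.Agent.Lib.Helper25.SpT.sf_skew, hyz, neg_zero]
  obtain ⟨x, r₃, K, hcase⟩ := key_tri c g M.hgX M.hgG (srd c.hk j y hy0) r₂ (srd_RS c.hk j y hy0) M.hr₂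
  obtain ⟨hL, hL0⟩ := L_eq_L0 c g r₂ j z M (srd c.hk j y hy0) r₃ (srd_RS c.hk j y hy0) x rfl hzy K
  rcases hcase with hW | hne
  · apply M.hne
    have h1 : Wf j z ⊓ img g r₂.W ≤ Wf j z ⊓ Wf j y := by
      apply le_inf inf_le_left
      have : r₃.W = Wf j y := hW
      rw [← this]
      exact hL0
    rw [Cfsg.Agent.Lib.Helper28.TWSLeaf.Wf_inf_Wf_sameS j y z M.hz hind] at h1
    exact le_bot_iff.mp h1
  · have hc := gamma_count c g (srd c.hk j y hy0) r₂ r₃ x K hne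
    rw [hL] at hc
    have h2 : Module.finrank F (Wf j z ⊓ img g r₂.W : Submodule F (Idx t k → F)) ≤
        Module.finrank F (Wf j z ⊓ Wf r₃.i r₃.y : Submodule F (Idx t k → F)) :=
      Submodule.finrank_mono (le_inf inf_le_left hL0)
    rw [Cfsg.Agent.Lib.Helper28.TWSLeaf.finrank_Wf_inf_WfS j r₃.i (fun h => hne h.symm) z r₃.y M.hz r₃.hy] at h2
    have hpos : 0 < k ^ (t - 2) := Nat.pow_pos (by omega)
    have : k ^ (t - 2) * 2 ≤ k ^ (t - 2) * (k - 2) := Nat.mul_le_mul_left _ (by omega)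
    nlinarith

theorem frwS_of {X : Subgroup (GL (Idx t k) F)} (c : CtxS X) (hk4 : 4 ≤ k) (g : GL (Idx t k) F) (hgX : g ∈ X)
    (hgG : g ∉ Gstd t k F) (r₂ : RD t k F) (hr₂ : RS r₂) : FRWS X g r₂ := by
  have hδ := delta_zero_four c hk4
  have hfr1 : ∀ g ∈ X, g ∉ Gstd t k F → ∀ (r₂ : RD t k F), RS r₂ → ∀ (i : Fin t) (y : Fin k → F), y ≠ 0 →
      img g r₂.W ⊓ Cf i (sfv y) = ⊥ :=
    fun g hgX hgG r₂ hr₂ i y hy0 => fr1S c hδ g hgX hgG r₂ hr₂ i y hy0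
  exact ⟨hgX, hgG, hr₂, hfr1 g hgX hgG r₂ hr₂, fr2S c hfr1 g hgX hgG r₂ hr₂⟩

/-- FR world: for every admissible `r₁` some `x ∈ ⟨T₁, T'⟩` with `x⁻¹ g ∈ G` and `x W₁ = W'` -/
theorem xy_of_frw {X : Subgroup (GL (Idx t k) F)} (c : CtxS X) (hk4 : 4 ≤ k) (g : GL (Idx t k) F) (r₂ : RD t k F)
    (w : FRWS X g r₂) (r₁ : RD t k F) (hr₁ : RS r₁) :
    ∃ x : GL (Idx t k) F, KeyS g r₁ r₂ x r₁ := by
  obtain ⟨x, r₃, K, hcase⟩ := key_tri c g w.hgX w.hgG r₁ r₂ hr₁ w.hr₂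
  rcases hcase with hW | hne
  · exact ⟨x, keyS_congr c K hr₁ hW.symm⟩
  · exfalso
    have hc := gamma_count c g r₁ r₂ r₃ x K hne
    have h0 : img g r₂.W ⊓ r₁.C = ⊥ := by
      have := w.fr1 r₁.i r₁.y r₁.hy
      have hC : r₁.C = Cf r₁.i (sfv r₁.y) := by
        change Cf r₁.i r₁.η = _
        rw [hr₁]
      rw [hC]
      exact this
    rw [h0, finrank_bot] at hc
    have hpos : 0 < k ^ (t - 2) := Nat.pow_pos (by omega)
    have : 0 < k ^ (t - 2) * (k - 2) := Nat.mul_pos hpos (by omega)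
    omega

theorem I6_mainS {X : Subgroup (GL (Idx t k) F)} (c : CtxS X) (hk4 : 4 ≤ k) (g : GL (Idx t k) F) (r₂ : RD t k F)
    (w : FRWS X g r₂) : False := by
  obtain ⟨r₁, hr₁⟩ := nonempty_RS (F := F) (t := t) (k := k) c.hk c.hk2 (by have := c.ht; omega)
  obtain ⟨x, K'⟩ := xy_of_frw c hk4 g r₂ w r₁ hr₁
  obtain ⟨A₀, hA₀, hA₀y, hyA₀, hW'⟩ := step6 c g r₂ w r₁ hr₁ x K'
  have hne : A₀ ≠ ⊥ := by
    intro h
    rw [h, finrank_bot] at hA₀
    omega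
  obtain ⟨x₄, hx₄A, hx₄0⟩ := Submodule.exists_mem_ne_zero_of_ne_bot hne
  refine thinS c g w.hgX w.hgG r₂ w.hr₂ r₁.i (perpA A₀) x₄ hx₄0 ?_ hW'
  intro a ha
  exact ha x₄ hx₄A

theorem stageIS_four {X : Subgroup (GL (Idx t k) F)} (c : CtxS X) (hk4 : 4 ≤ k) : X ≤ Gstd t k F := by
  intro g hgX
  by_contra hgG
  obtain ⟨r₂, hr₂⟩ := nonempty_RS (F := F) (t := t) (k := k) c.hk c.hk2 (by have := c.ht; omega)
  exact I6_mainS c hk4 g r₂ (frwS_of c hk4 g hgX hgG r₂ hr₂)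

/-- `k = 2`: the three cases for `K = R ⊓ R''` -/
theorem stageIS_two {X : Subgroup (GL (Idx (t + 1) k) F)} (c : CtxS X) (hk : k = 2) : X ≤ Gstd (t + 1) k F := by
  classical
  by_contra hXG
  obtain ⟨r, x, P⟩ := exists_NP c hXG
  have hq5 : 5 ≤ Fintype.card F := by
    have h3 : ¬ Fintype.card F = 3 := fun h => c.hex ⟨h, hk⟩
    obtain ⟨m, hm⟩ := c.hodd
    have h1 : 1 < Fintype.card F := Fintype.one_lt_card
    omega
  by_cases hK0 : r.W ⊓ img x r.W = ⊥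
  · exact opp_case c hk r x P hK0
  · -- some `μ` with `μ² ≠ 1`
    have hμ : ∃ μ : F, μ ≠ 0 ∧ μ ^ 2 ≠ 1 := by
      by_contra hcon
      push Not at hcon
      have hsub : (Finset.univ : Finset F) ⊆ (Finset.univ.filter (fun a : F => a = 0 ∨ a = 1 ∨ a = -1)) := by
        intro a _
        rw [Finset.mem_filter]
        refine ⟨Finset.mem_univ _, ?_⟩
        by_cases ha : a = 0
        · exact Or.inl ha
        · right
          have h := hcon a ha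
          have : (a - 1) * (a + 1) = 0 := by ring_nf; rw [h]; ring
          rcases mul_eq_zero.1 this with h | h
          · exact Or.inl (sub_eq_zero.1 h)
          · exact Or.inr (eq_neg_of_add_eq_zero_left h)
      have hle := Finset.card_le_card hsub
      have h3 : (Finset.univ.filter (fun a : F => a = 0 ∨ a = 1 ∨ a = -1)).card ≤ 3 := by
        have : (Finset.univ.filter (fun a : F => a = 0 ∨ a = 1 ∨ a = -1)) ⊆ ({0, 1, -1} : Finset F) := by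
          intro a ha
          rw [Finset.mem_filter] at ha
          simp only [Finset.mem_insert, Finset.mem_singleton]
          exact ha.2
        exact (Finset.card_le_card this).trans (Finset.card_le_three)
      rw [Finset.card_univ] at hle
      omega
    obtain ⟨μ, hμ0, hμ2⟩ := hμ
    obtain ⟨T, hTL, ha, hb, -⟩ := twistNP r x P μ hμ0
    obtain ⟨γ, α, ν, hν, hTf, hαy, hsimB, hsimA, hγa, hγb⟩ := T_form c r x P (r.W ⊓ img x r.W) inf_le_left μ hμ0 T hTL ha hb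
    -- `K_B`
    let KB : Submodule F (Idx t k → F) :=
      { carrier := {b | tens r.i b r.y ∈ r.W ⊓ img x r.W}
        add_mem' := by
          intro a b ha hb
          show tens r.i (a + b) r.y ∈ r.W ⊓ img x r.W
          have : tens r.i (a + b) r.y = tens r.i a r.y + tens r.i b r.y := by
            funext z; simp only [tens, Pi.add_apply]; ring
          rw [this]; exact Submodule.add_mem _ ha hb
        zero_mem' := by
          show tens r.i (0 : Idx t k → F) r.y ∈ r.W ⊓ img x r.W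
          have : tens r.i (0 : Idx t k → F) r.y = 0 := by
            funext z; simp [tens]
          rw [this]; exact Submodule.zero_mem _
        smul_mem' := by
          intro a b hb
          show tens r.i (a • b) r.y ∈ r.W ⊓ img x r.W
          have : tens r.i (a • b) r.y = a • tens r.i b r.y := by
            funext z; simp [tens, mul_assoc]
          rw [this]; exact Submodule.smul_mem _ _ hb }
    have hKBmem : ∀ b, b ∈ KB ↔ tens r.i b r.y ∈ r.W ⊓ img x r.W := fun b => Iff.rfl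
    have hKdesc : ∀ v : Idx (t + 1) k → F, v ∈ r.W ⊓ img x r.W ↔ ∃ b ∈ KB, v = tens r.i b r.y := by
      intro v
      constructor
      · intro hv
        obtain ⟨b, rfl⟩ := (Cfsg.Agent.Lib.Helper22.TWLeaf.mem_Wf_iff_tens r.i r.y r.hy v).1 hv.1
        exact ⟨b, hv, rfl⟩
      · rintro ⟨b, hb, rfl⟩
        exact hb
    have hKB0 : KB ≠ ⊥ := by
      intro h
      apply hK0
      rw [eq_bot_iff]
      intro v hv
      obtain ⟨b, hb, rfl⟩ := (hKdesc v).1 hv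
      rw [h, Submodule.mem_bot] at hb
      rw [hb]
      have : tens r.i (0 : Idx t k → F) r.y = 0 := by
        funext z; simp [tens]
      rw [this]; exact Submodule.zero_mem _
    have hKB1 : KB ≠ ⊤ := by
      intro h
      -- then `R ≤ R''`, so `x R = R`: NS
      apply P.hxG
      have hle : r.W ≤ img x r.W := by
        intro v hv
        obtain ⟨b, rfl⟩ := (Cfsg.Agent.Lib.Helper22.TWLeaf.mem_Wf_iff_tens r.i r.y r.hy v).1 hv
        have : b ∈ KB := by rw [h]; exact Submodule.mem_top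
        exact ((hKBmem b).1 this).2
      have heq : img x r.W = r.W := by
        symm
        apply Submodule.eq_of_le_of_finrank_le hle
        rw [Cfsg.Agent.Lib.Helper16.TWLeaf.finrank_img]
      exact c.ns x P.hxX ⟨r.i, r.i, r.y, r.y, r.hy, r.hy, trivial, trivial, heq⟩
    have hperp := nonopp c.hk KB hKB0 hKB1 μ hμ0 hμ2 γ ν hν hsimB (fun b hb => hγa b hb) (fun b => hγb b)
    exact flag_case c hk r x P KB hperp hKdesc

/-- STAGE I (symplectic), all `t ≥ 2`, both parities -/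
theorem stageIS (hodd : Odd (Fintype.card F)) (hk : Even k) (hk2 : 2 ≤ k) (ht : 2 ≤ t)
    (hex : ¬ (Fintype.card F = 3 ∧ k = 2)) (X : Subgroup (GL (Idx t k) F)) (hHX : HS t k F ≤ X) (hXD : X ≤ DSV t k F)
    (hNS : NSS X) : X ≤ Gstd t k F := by
  have c : CtxS X := ⟨hodd, hk, hk2, ht, hex, hHX, hXD, hNS, fcS_of_nsS hodd hk2 X hNS⟩
  by_cases hk4 : 4 ≤ k
  · exact stageIS_four c hk4
  · have hk2' : k = 2 := by
      obtain ⟨m, hm⟩ := hk
      omega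
    obtain ⟨t', rfl⟩ : ∃ t', t = t' + 1 := ⟨t - 1, by omega⟩
    exact stageIS_two c hk2'

end Cfsg.Agent.Lib.Helper5.TWS.StageI
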