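import Mathlib
import Cfsg.Agent.Lib.Helper5.TWS.MainOf
import Cfsg.Agent.Lib.Helper5.TWS.StageI
import Cfsg.Agent.Lib.Helper13.TWS3Main

/-!
# S5668 (C7 symplectic): `MainTS` from the descent (D_t) and Case A

Stage I (`Helper5.TWS.StageI.stageIS`) and Stage III (`Helper13.TWS3.stageIIIS`) are plugged into `mainTS_of_stages`;
the two halves of Stage II (descent `hDesc` = helper14's `descS` fed with Stage I, Case A `hA` = helper8's `caseAS`)
stay hypotheses here and are supplied in `Cfsg.Agent.Lib.Helper5.TWS.Main`.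
-/

set_option autoImplicit false
set_option linter.unusedSectionVars false
set_option linter.unusedVariables false

namespace Cfsg.Agent.Lib.Helper5.TWS
open Matrix Cfsg.Geo Cfsg.Agent.Lib.Helper18.AschA89 Cfsg.Agent.Lib.Helper8.TW
open Cfsg.Agent.Lib.Helper25.SpT (sf Jm sfv)
open Cfsg.Agent.Lib.Helper14.TWII (InZ)

variable {F : Type*} [Field F] [Fintype F] {k : ℕ}

theorem mainTS_of_II (hodd : Odd (Fintype.card F)) (hk : Even k) (hk2 : 2 ≤ k)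
    (hex : ¬ (Fintype.card F = 3 ∧ k = 2))
    (hDesc : (∀ t' : ℕ, 2 ≤ t' → ∀ X' : Subgroup (GL (Idx t' k) F), HS t' k F ≤ X' → X' ≤ DSV t' k F → NSS X' →
        X' ≤ Gstd t' k F) →
      ∀ (t : ℕ) (X : Subgroup (GL (Idx (t + 1) k) F)), HS (t + 1) k F ≤ X → X ≤ DSV (t + 1) k F →
      ¬ X ≤ Gstd (t + 1) k F → ∃ (j : Fin (t + 1)) (z : Fin k → F), z ≠ 0 ∧ ∃ u ∈ X, u ∉ Gstd (t + 1) k F ∧ InZ j z u)
    (hA : ∀ t, Odd t → 3 ≤ t → ∀ X : Subgroup (GL (Idx t k) F), HS t k F ≤ X → X ≤ GSV t k F →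
      ∀ (j : Fin t) (z : Fin k → F), z ≠ 0 → ∀ u : GL (Idx t k) F, u ∈ X → u ∉ Gstd t k F → InZ j z u →
        ∃ J : Finset (Fin t), Odd J.card ∧ 3 ≤ J.card ∧ XTS X J) :
    ∀ t, Odd t → 3 ≤ t → MainTS t k F := by
  have hI : ∀ t, 2 ≤ t → ∀ X : Subgroup (GL (Idx t k) F), HS t k F ≤ X → X ≤ DSV t k F → NSS X →
      X ≤ Gstd t k F :=
    fun t ht X h1 h2 h3 => StageI.stageIS hodd hk hk2 ht hex X h1 h2 h3
  exact mainTS_of_stages hI
    (fun t ht ht3 X hHX hXG hNS => stageIIS_of (hDesc hI) hA t ht ht3 X hHX hXG hNS)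
    (Cfsg.Agent.Lib.Helper13.TWS3.stageIIIS hodd hk hk2)

end Cfsg.Agent.Lib.Helper5.TWS
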