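import Mathlib
import Cfsg.Agent.Lib.Helper5.TWS.MainOf2
import Cfsg.Agent.Lib.Helper5.TWSDesc
import Cfsg.Agent.Lib.Helper8.TWS2AMain

/-!
# S5668 (C7 symplectic): `MainTS t k F` for all odd `t ≥ 3`

`X` between `H = G ∩ Sp(V)` and `Sp(V)` (`V = (F^k)^{⊗ t}`, `q` odd, `k` even, `(q,k) ≠ (3,2)`) is inside `G` or is `Sp(V)`.
Stage I = `Helper5.TWS.StageI.stageIS`, Stage II-B (descent) = `Helper5.TWSDesc.descS` (helper14's assembly),
Stage II-A (Case A) = `Helper8.TWS2AMain.caseAS`, Stage III = `Helper13.TWS3.stageIIIS`.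
-/

set_option autoImplicit false
set_option linter.unusedSectionVars false
set_option linter.unusedVariables false

namespace Cfsg.Agent.Lib.Helper5.TWS
open Matrix Cfsg.Geo Cfsg.Agent.Lib.Helper18.AschA89 Cfsg.Agent.Lib.Helper8.TW

variable {F : Type*} [Field F] [Fintype F] {k : ℕ}

theorem mainTS (hodd : Odd (Fintype.card F)) (hk : Even k) (hk2 : 2 ≤ k)
    (hex : ¬ (Fintype.card F = 3 ∧ k = 2)) : ∀ t, Odd t → 3 ≤ t → MainTS t k F :=
  mainTS_of_II hodd hk hk2 hex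
    (fun hI => Cfsg.Agent.Lib.Helper5.TWSDesc.descS hodd hk hk2 hex hI)
    (Cfsg.Agent.Lib.Helper8.TWS2AMain.caseAS_hA hodd hk hk2)

end Cfsg.Agent.Lib.Helper5.TWS
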